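import Groth.Agent.Coherent.K55.TKer
import Groth.Agent.S6304
import Groth.Agent.Ega3A.LocalT

/-!
# Linear algebra data computing the cohomology of a flat (not necessarily proper) family

`FlatData A`: exact sequences `O p --u--> Q p --π--> O (p+1) → 0` with `Q p` flat and `O p` flat for
large `p`.  `K.H p = ker u` is `H^p`, `K.HB p B = ker u_B` its value on an `A`-algebra `B`.
* `isBaseChange_res`: if all `K.H p` are flat, they commute with every base change.
* `exists_flatData`: from a complex of flat modules with cohomology vanishing universally in large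
  degrees.
-/

set_option autoImplicit false

universe u

open CategoryTheory CategoryTheory.Limits TensorProduct

namespace K100.FlatDat

open K55 Function

/-- Linear algebra data computing the cohomology of a flat family over `A`. -/
structure FlatData (A : Type u) [CommRing A] where
  /-- `opcycles` -/
  O : ℕ → ModuleCat.{u} A
  /-- the next term of the complex -/
  Q : ℕ → ModuleCat.{u} A
  /-- the map induced by the differential -/
  u : ∀ p, O p →ₗ[A] Q p
  /-- the projection -/
  π : ∀ p, Q p →ₗ[A] O (p + 1)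
  exact : ∀ p, Function.Exact (u p) (π p)
  surj : ∀ p, Function.Surjective (π p)
  flatQ : ∀ p, Module.Flat A (Q p)
  big : ∃ N : ℕ, ∀ p, N ≤ p → Module.Flat A (O p)

namespace FlatData

variable {A : Type u} [CommRing A] (K : FlatData A)

attribute [instance] FlatData.flatQ

/-- `H^p`. -/
abbrev H (p : ℕ) : Submodule A (K.O p) := LinearMap.ker (K.u p)

/-- `H^p` after base change to `B`. -/
noncomputable abbrev HB (p : ℕ) (B : Type u) [CommRing B] [Algebra A B] :
    Submodule B (B ⊗[A] (K.O p)) := LinearMap.ker ((K.u p).baseChange B)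

/-- `H^p → H^p_B`. -/
noncomputable abbrev res (p : ℕ) (B : Type u) [CommRing B] [Algebra A B] : K.H p →ₗ[A] K.HB p B :=
  KerAlg.kres (K.u p) B

theorem exact_ker_range {M N : Type u} [AddCommGroup M] [Module A M] [AddCommGroup N] [Module A N]
    (f : M →ₗ[A] N) : Exact (LinearMap.ker f).subtype f.rangeRestrict := by
  intro x
  constructor
  · intro hx
    exact ⟨⟨x, congrArg Subtype.val hx⟩, rfl⟩
  · rintro ⟨z, rfl⟩
    exact Subtype.ext z.2

theorem flat_O_step (p : ℕ) (hH : Module.Flat A (K.H p)) (h : Module.Flat A (K.O (p + 1))) :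
    Module.Flat A (K.O p) := by
  have h1 : Module.Flat A (LinearMap.range (K.u p)) := KerAlg.flat_range (K.exact p) (K.surj p)
  exact (Groth.Agent.S6304.result (LinearMap.ker (K.u p)).subtype (K.u p).rangeRestrict
    (LinearMap.ker (K.u p)).subtype_injective (exact_ker_range (K.u p))
    (LinearMap.surjective_rangeRestrict (K.u p))).1 hH

theorem flat_O (hH : ∀ p, Module.Flat A (K.H p)) (p : ℕ) : Module.Flat A (K.O p) := by
  obtain ⟨N, hN⟩ := K.big
  have key : ∀ k p, N ≤ p + k → Module.Flat A (K.O p) := by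
    intro k
    induction k with
    | zero => exact fun p hp => hN p hp
    | succ k ih => exact fun p hp => K.flat_O_step p (hH p) (ih (p + 1) (by omega))
  exact key N p (by omega)

/-- If all `H^p` are flat, then they commute with every base change. -/
theorem isBaseChange_res (hH : ∀ p, Module.Flat A (K.H p)) (p : ℕ) (B : Type u) [CommRing B]
    [Algebra A B] : IsBaseChange B (K.res p B) := by
  have := K.flat_O hH (p + 1)
  exact KerAlg.isBaseChange_kres_of_flat B (K.exact p) (K.surj p)

end FlatData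

open Groth.Agent.Ega3A.TFunBasic

/-- If `ker (u ⊗ M) = 0` for all `M` then the cokernel of `u` is flat. -/
theorem flat_of_injective {A : Type u} [CommRing A] {O Q C : Type u} [AddCommGroup O]
    [AddCommGroup Q] [AddCommGroup C] [Module A O] [Module A Q] [Module A C] (u : O →ₗ[A] Q)
    (π : Q →ₗ[A] C) (hex : Exact u π) (hπ : Surjective π) [Module.Flat A Q]
    (h : ∀ (M : Type u) [AddCommGroup M] [Module A M], Injective (u.rTensor M)) :
    Module.Flat A C := by
  rw [Module.Flat.iff_lTensor_preserves_injective_linearMap]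
  intro N N' _ _ _ _ L hL
  rw [injective_iff_map_eq_zero]
  intro x hx
  -- `x ∈ C ⊗ N`
  obtain ⟨y, rfl⟩ := LinearMap.rTensor_surjective N hπ x
  -- the image of `y` in `Q ⊗ N'` comes from `O ⊗ N'`
  have h1 : (π.rTensor N') ((L.lTensor Q) y) = 0 := by
    rw [← LinearMap.comp_apply, LinearMap.rTensor_comp_lTensor, ← LinearMap.lTensor_comp_rTensor]
    exact hx
  obtain ⟨z, hz⟩ := (rTensor_exact N' hex hπ _).1 h1
  -- `z` dies in `O ⊗ (N' / N)`
  have h2 : (L.range.mkQ.lTensor O) z = 0 := by
    apply h (N' ⧸ L.range)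
    rw [map_zero, ← LinearMap.comp_apply, LinearMap.rTensor_comp_lTensor,
      ← LinearMap.lTensor_comp_rTensor, LinearMap.comp_apply, hz, ← LinearMap.comp_apply,
      ← LinearMap.lTensor_comp, LinearMap.range_mkQ_comp, LinearMap.lTensor_zero]
    rfl
  have hexN : Exact L L.range.mkQ := LinearMap.exact_map_mkQ_range L
  obtain ⟨w, rfl⟩ := (lTensor_exact O hexN (Submodule.mkQ_surjective _) z).1 h2
  -- compare `w` with `y`
  have h3 : (u.rTensor N) w = y := by
    apply Module.Flat.lTensor_preserves_injective_linearMap (M := Q) L hL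
    rw [← hz, ← LinearMap.comp_apply, LinearMap.lTensor_comp_rTensor,
      ← LinearMap.rTensor_comp_lTensor]
    rfl
  rw [← h3, ← LinearMap.comp_apply, ← LinearMap.rTensor_comp, hex.linearMap_comp_eq_zero,
    LinearMap.rTensor_zero]
  rfl

/-- The data attached to a complex of flat modules, in homological degrees `≤ 0`, whose cohomology
vanishes universally in large degrees. -/
theorem exists_flatData {A : Type u} [CommRing A] (P : ChainComplex (ModuleCat.{u} A) ℤ)
    (hP : ∀ i, Module.Flat A (P.X i))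
    (N : ℕ) (hN : ∀ p : ℕ, N ≤ p → ∀ M, IsZero ((CohIII.TFun P (-(p : ℤ))).obj M)) :
    ∃ K : FlatData A, ∀ p : ℕ,
      ∃ κ₀ : (CohIII.TFun P (-(p : ℤ))).obj (ModuleCat.of A A) ≃+ K.H p,
        (∀ (a : A) (x : (CohIII.TFun P (-(p : ℤ))).obj (ModuleCat.of A A)),
          κ₀ (((CohIII.TFun P (-(p : ℤ))).map (ModuleCat.ofHom (LinearMap.mulLeft A a))).hom x) =
            a • κ₀ x) ∧
        ∀ (B : Type u) [CommRing B] [Algebra A B],
          ∃ κ : (CohIII.TFun P (-(p : ℤ))).obj (ModuleCat.of A B) ≃+ K.HB p B,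
            (∀ (b : B) (x : (CohIII.TFun P (-(p : ℤ))).obj (ModuleCat.of A B)),
              κ (((CohIII.TFun P (-(p : ℤ))).map (ModuleCat.ofHom (LinearMap.mulLeft A b))).hom x) =
                b • κ x) ∧
            ∀ x : (CohIII.TFun P (-(p : ℤ))).obj (ModuleCat.of A A),
              κ (((CohIII.TFun P (-(p : ℤ))).map
                (ModuleCat.ofHom (Algebra.linearMap A B))).hom x) = K.res p B (κ₀ x) := by
  have hrel : ∀ p : ℕ, (ComplexShape.down ℤ).Rel (-(p : ℤ)) (-((p + 1 : ℕ) : ℤ)) := fun p => by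
    simp
  have hnext : ∀ p : ℕ, (ComplexShape.down ℤ).next (-(p : ℤ)) = -((p + 1 : ℕ) : ℤ) := fun p =>
    (ComplexShape.down ℤ).next_eq' (hrel p)
  refine ⟨
    { O := fun p => P.opcycles (-(p : ℤ))
      Q := fun p => P.X (-((p + 1 : ℕ) : ℤ))
      u := fun p => (P.fromOpcycles (-(p : ℤ)) (-((p + 1 : ℕ) : ℤ))).hom
      π := fun p => (P.pOpcycles (-((p + 1 : ℕ) : ℤ))).hom
      exact := fun p => Groth.Agent.Ega3A.LocalT.exact_fromOpcycles_pOpcycles P (hrel p)
      surj := fun p => Groth.Agent.Ega3A.LocalT.pOpcycles_surjective P _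
      flatQ := fun p => hP _
      big := ?_ }, fun p => ?_⟩
  · refine ⟨N + 1, fun p hp => ?_⟩
    obtain ⟨q, rfl⟩ : ∃ q, p = q + 1 := ⟨p - 1, by omega⟩
    have := hP (-((q + 1 : ℕ) : ℤ))
    refine flat_of_injective _ _ (Groth.Agent.Ega3A.LocalT.exact_fromOpcycles_pOpcycles P (hrel q))
      (Groth.Agent.Ega3A.LocalT.pOpcycles_surjective P _) ?_
    intro M _ _
    exact (Groth.Agent.Ega3A.LocalT.isZero_T_iff P _ _ (hnext q) (ModuleCat.of A M)).1
      (hN q (by omega) _)
  · refine ⟨TKer.kap0 P (-(p : ℤ)) (-((p + 1 : ℕ) : ℤ)) (hnext p), fun a x =>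
      TKer.kap0_mul P _ _ (hnext p) a x, fun B _ _ => ⟨TKer.kapB P (-(p : ℤ)) (-((p + 1 : ℕ) : ℤ))
        (hnext p) B, fun b x => TKer.kapB_mul P _ _ (hnext p) B b x, fun x =>
          TKer.kapB_alg P _ _ (hnext p) B x⟩⟩

end K100.FlatDat
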