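import Groth.Agent.CohqA.BaseChangeMod
import Groth.Agent.Coherent.K100.FlatDat
import Mathlib.Algebra.Category.Ring.Constructions

/-!
# Algebra of `IsBC`: transport, and passage to a bigger ring of scalars along a pushout
-/

set_option autoImplicit false

universe u

open CategoryTheory CategoryTheory.Limits TensorProduct

namespace K100.BCExch

open Groth.Agent.CohqA.BaseChangeMod

section Pushout

/-- A pushout of commutative rings is generated by the images of the two rings. -/
theorem closure_eq_top_of_isPushout {A R B R' : CommRingCat.{u}} {α : A ⟶ R} {φ : A ⟶ B}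
    {ψ : R ⟶ R'} {β : B ⟶ R'} (h : IsPushout α φ ψ β) :
    Subring.closure (Set.range ψ.hom ∪ Set.range β.hom) = ⊤ := by
  let C := Subring.closure (Set.range ψ.hom ∪ Set.range β.hom)
  let ψ' : R ⟶ CommRingCat.of C := CommRingCat.ofHom (ψ.hom.codRestrict C fun r =>
    Subring.subset_closure (Or.inl ⟨r, rfl⟩))
  let β' : B ⟶ CommRingCat.of C := CommRingCat.ofHom (β.hom.codRestrict C fun r =>
    Subring.subset_closure (Or.inr ⟨r, rfl⟩))
  have hw : α ≫ ψ' = φ ≫ β' := by
    ext a
    exact congr($(h.w) a)
  let t : R' ⟶ CommRingCat.of C := h.desc ψ' β' hw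
  let i : CommRingCat.of C ⟶ R' := CommRingCat.ofHom C.subtype
  have ht : t ≫ i = 𝟙 R' := by
    apply h.hom_ext
    · rw [← Category.assoc, h.inl_desc, Category.comp_id]
      rfl
    · rw [← Category.assoc, h.inr_desc, Category.comp_id]
      rfl
  rw [eq_top_iff]
  intro x _
  have hx : i.hom (t.hom x) = x := congr($ht x)
  rw [← hx]
  exact (t.hom x).2

end Pushout

section Exchange

variable {A B R R' : Type u} [CommRing A] [CommRing B] [CommRing R] [CommRing R']
  (α : A →+* R) (φ : A →+* B) (ψ : R →+* R') (β : B →+* R')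

/-- If `R' = R ⊗_A B` then base change along `A → B` of an `R`-module is base change along
`R → R'`. -/
theorem isBC_of_isBC_pushout (w : ψ.comp α = β.comp φ)
    (hgen : Subring.closure (Set.range ψ ∪ Set.range β) = ⊤)
    {M N : Type u} [AddCommGroup M] [Module R M] [AddCommGroup N] [Module R' N] (f : M →+ N)
    (hs : ∀ (r : R) (x : M), f (r • x) = ψ r • f x)
    (h : letI := Module.compHom M α; letI := Module.compHom N β; IsBC φ f) : IsBC ψ f := by
  letI i1 : Module A M := Module.compHom M α
  letI i2 : Module B N := Module.compHom N β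
  have h' : IsBC φ f := h
  refine ⟨hs, fun Q _ _ g hg => ?_⟩
  letI i3 : Module B Q := Module.compHom Q β
  obtain ⟨g', hg', hu⟩ := h'.lift Q g (fun r x => by
    change g (α r • x) = β (φ r) • g x
    rw [hg]
    congr 1
    exact congr($w r))
  have key : ∀ (r' : R') (n : N), g' (r' • n) = r' • g' n := by
    intro r'
    have hr' : r' ∈ Subring.closure (Set.range ψ ∪ Set.range β) := by
      rw [hgen]
      trivial
    induction hr' using Subring.closure_induction with
    | mem r' hr' =>
      rcases hr' with ⟨r, rfl⟩ | ⟨b, rfl⟩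
      · -- compare two `B`-linear maps
        let t₁ : N →ₗ[B] Q :=
          { toFun := fun n => g' (ψ r • n)
            map_add' := fun x y => by rw [smul_add, map_add]
            map_smul' := fun b n => by
              change g' (ψ r • β b • n) = β b • g' (ψ r • n)
              rw [smul_comm]
              exact g'.map_smul b (ψ r • n) }
        let t₂ : N →ₗ[B] Q :=
          { toFun := fun n => ψ r • g' n
            map_add' := fun x y => by rw [map_add, smul_add]
            map_smul' := fun b n => by
              change ψ r • g' (b • n) = β b • ψ r • g' n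
              rw [g'.map_smul]
              exact smul_comm (ψ r) (β b) (g' n) }
        have ht : t₁ = t₂ := h'.hom_ext fun x => by
          change g' (ψ r • f x) = ψ r • g' (f x)
          rw [← hs, hg', hg', hg]
        exact fun n => LinearMap.congr_fun ht n
      · exact fun n => g'.map_smul b n
    | zero => intro n; rw [zero_smul, zero_smul, map_zero]
    | one => intro n; rw [one_smul, one_smul]
    | add x y _ _ hx hy => intro n; rw [add_smul, add_smul, map_add, hx, hy]
    | neg x _ hx => intro n; rw [neg_smul, neg_smul, map_neg, hx]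
    | mul x y _ _ hx hy => intro n; rw [mul_smul, mul_smul, hx, hy]
  refine ⟨{ g' with map_smul' := key }, hg', fun g'' hg'' => ?_⟩
  ext n
  have h2 : ({ g'' with map_smul' := fun b n => g''.map_smul (β b) n } : N →ₗ[B] Q) = g' :=
    hu _ hg''
  exact LinearMap.congr_fun h2 n

end Exchange

section Sealed

/-- `IsBC φ f` for the module structures obtained by restriction of scalars along `ρ`, `ρ'`. -/
def IsBCr {A B R R' : Type u} [CommRing A] [CommRing B] [Ring R] [Ring R']
    (φ : A →+* B) {M N : Type u} [AddCommGroup M] [Module R M] [AddCommGroup N]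
    [Module R' N] (ρ : A →+* R) (ρ' : B →+* R') (f : M →+ N) : Prop :=
  letI := Module.compHom M ρ
  letI := Module.compHom N ρ'
  IsBC φ f

theorem isBC_of_isBCr {A B R R' : Type u} [CommRing A] [CommRing B] [CommRing R] [CommRing R']
    (φ : A →+* B) {M N : Type u} [AddCommGroup M] [Module R M] [AddCommGroup N]
    [Module R' N] (α : A →+* R) (ψ : R →+* R') (β : B →+* R') (w : ψ.comp α = β.comp φ)
    (hgen : Subring.closure (Set.range ψ ∪ Set.range β) = ⊤) (f : M →+ N)
    (hs : ∀ (r : R) (x : M), f (r • x) = ψ r • f x) (h : IsBCr φ α β f) : IsBC ψ f :=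
  isBC_of_isBC_pushout α φ ψ β w hgen f hs h

end Sealed

section Transport

variable {A B : Type u} [CommRing A] [CommRing B] (φ : A →+* B)

/-- Transport of `IsBC` along additive isomorphisms. -/
theorem isBC_of_equiv {M N M' N' : Type u} [AddCommGroup M] [Module A M] [AddCommGroup N]
    [Module B N] [AddCommGroup M'] [Module A M'] [AddCommGroup N'] [Module B N'] {f : M →+ N}
    (h : IsBC φ f) (e : M' ≃+ M) (he : ∀ (a : A) (x : M'), e (a • x) = a • e x)
    (e' : N' ≃+ N) (he' : ∀ (b : B) (x : N'), e' (b • x) = b • e' x)
    (f' : M' →+ N') (hf : ∀ x, e' (f' x) = f (e x)) : IsBC φ f' := by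
  let E : M' ≃ₗ[A] M := e.toLinearEquiv he
  let E' : N' ≃ₗ[B] N := e'.toLinearEquiv he'
  have h1 : IsBC φ (f.comp E.toLinearMap.toAddMonoidHom) := by
    refine ⟨fun r x => ?_, fun Q _ _ g hg => ?_⟩
    · change f (E (r • x)) = φ r • f (E x)
      rw [map_smul, h.map_smul]
    · obtain ⟨g', hg', hu⟩ := h.lift Q (g.comp E.symm.toLinearMap.toAddMonoidHom) (fun r x => by
        change g (E.symm (r • x)) = φ r • g (E.symm x)
        rw [map_smul, hg])
      refine ⟨g', fun x => ?_, fun g'' hg'' => hu g'' fun x => ?_⟩
      · refine (hg' (E x)).trans ?_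
        change g (E.symm (E x)) = g x
        rw [LinearEquiv.symm_apply_apply]
      · change g'' (f x) = g (E.symm x)
        rw [← hg'']
        change _ = g'' (f (E (E.symm x)))
        rw [LinearEquiv.apply_symm_apply]
  refine h1.of_equiv E'.symm fun x => ?_
  apply E'.injective
  rw [LinearEquiv.apply_symm_apply]
  exact (hf x).symm

/-- From `IsBaseChange` of a map between isomorphic modules to `IsBC`. -/
theorem isBC_of_isBaseChange [Algebra A B] {H HB : Type u} [AddCommMonoid H] [Module A H]
    [AddCommMonoid HB] [Module A HB] [Module B HB] [IsScalarTower A B HB] (res : H →ₗ[A] HB)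
    (h : IsBaseChange B res) {M N : Type u} [AddCommGroup M] [Module A M] [AddCommGroup N]
    [Module B N] (θ₀ : M ≃+ H) (h₀ : ∀ (a : A) (x : M), θ₀ (a • x) = a • θ₀ x)
    (θ : N ≃+ HB) (hθ : ∀ (b : B) (x : N), θ (b • x) = b • θ x) (g : M →+ N)
    (hg : ∀ x, θ (g x) = res (θ₀ x)) : IsBC (algebraMap A B) g := by
  refine ⟨fun r x => ?_, fun Q _ _ t ht => ?_⟩
  · apply θ.injective
    rw [hg, h₀, map_smul, hθ, hg, algebraMap_smul]
  · letI : Module A Q := Module.compHom Q (algebraMap A B)
    haveI : IsScalarTower A B Q := ⟨fun a b q => by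
      change (a • b) • q = algebraMap A B a • (b • q)
      rw [Algebra.smul_def, mul_smul]⟩
    let t₀ : H →ₗ[A] Q :=
      { toFun := fun x => t (θ₀.symm x)
        map_add' := fun x y => by rw [map_add, map_add]
        map_smul' := fun a x => by
          have h1 : θ₀.symm (a • x) = a • θ₀.symm x := by
            apply θ₀.injective
            rw [h₀, AddEquiv.apply_symm_apply, AddEquiv.apply_symm_apply]
          rw [h1, ht]
          rfl }
    refine ⟨{ toFun := fun x => h.lift t₀ (θ x)
              map_add' := fun x y => by rw [map_add, map_add]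
              map_smul' := fun b x => by rw [hθ, map_smul]; rfl }, fun x => ?_, fun t'' h'' => ?_⟩
    · change h.lift t₀ (θ (g x)) = t x
      rw [hg, h.lift_eq]
      change t (θ₀.symm (θ₀ x)) = t x
      rw [AddEquiv.symm_apply_apply]
    · let s₂ : HB →ₗ[B] Q :=
        { toFun := fun x => t'' (θ.symm x)
          map_add' := fun x y => by rw [map_add, map_add]
          map_smul' := fun b x => by
            have h1 : θ.symm (b • x) = b • θ.symm x := by
              apply θ.injective
              rw [hθ, AddEquiv.apply_symm_apply, AddEquiv.apply_symm_apply]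
            rw [h1, map_smul]
            rfl }
      have hs : s₂ = h.lift t₀ := by
        refine h.algHom_ext' _ _ (LinearMap.ext fun x => ?_)
        change t'' (θ.symm (res x)) = h.lift t₀ (res x)
        rw [h.lift_eq]
        obtain ⟨y, rfl⟩ := θ₀.surjective x
        rw [← hg, AddEquiv.symm_apply_apply, h'']
        change t y = t (θ₀.symm (θ₀ y))
        rw [AddEquiv.symm_apply_apply]
      ext x
      have h3 : s₂ (θ x) = t'' x := by
        change t'' (θ.symm (θ x)) = t'' x
        rw [AddEquiv.symm_apply_apply]
      rw [← h3, hs]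
      rfl

end Transport

section FlatBC

open K100.FlatDat

/-- From `θ (g x) = K.res (θ₀ x)` to `IsBC`. -/
theorem isBC_of_flatData {A : Type u} [CommRing A] (K : FlatData A)
    (hH : ∀ p, Module.Flat A (K.H p)) (p : ℕ) (B : Type u) [CommRing B]
    [Algebra A B] {M N : Type u} [AddCommGroup M] [Module A M] [AddCommGroup N] [Module B N]
    (θ₀ : M ≃+ K.H p) (h₀ : ∀ (a : A) (x : M), θ₀ (a • x) = a • θ₀ x)
    (θ : N ≃+ K.HB p B) (h : ∀ (b : B) (x : N), θ (b • x) = b • θ x) (g : M →+ N)
    (hg : ∀ x, θ (g x) = K.res p B (θ₀ x)) : IsBC (algebraMap A B) g :=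
  isBC_of_isBaseChange (K.res p B) (K.isBaseChange_res hH p B) θ₀ h₀ θ h g hg

end FlatBC

end K100.BCExch
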