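import Groth.Agent.Coherent.K100.FlatV
import Groth.Agent.Coherent.K56.Bridge55

/-!
# Flat families with flat direct images: `GenBC.bc` is an isomorphism
-/

set_option autoImplicit false

universe u

open CategoryTheory CategoryTheory.Limits AlgebraicGeometry Opposite TopologicalSpace TensorProduct

namespace K100.FlatBC

open Groth.Agent.Ega3B Groth.Agent K55 K55.PackV K100.BCExch K100.FlatV
open Groth.Agent.CohqA.BaseChangeMod

section Smul

variable {X S X' S' : Scheme.{u}} {f : X ⟶ S} {g : S' ⟶ S} {f' : X' ⟶ S'} {g' : X' ⟶ X}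

/-- Pullback of classes over opens is semilinear. -/
theorem pullOn_smul (w : g' ≫ f = f' ≫ g) (F : X.Modules) {V : S.Opens} {W : S'.Opens}
    (h : W ≤ g ⁻¹ᵁ V) (hle : f' ⁻¹ᵁ W ≤ g' ⁻¹ᵁ (f ⁻¹ᵁ V)) (p : ℕ) (r : Γ(S, V))
    (x : K56.Bridge.HVx f F V p) :
    letI := K56.Bridge.modV f F V p
    letI := K56.Bridge.modV f' ((Scheme.Modules.pullback g').obj F) W p
    HX.pullOn g' (f ⁻¹ᵁ V) (f' ⁻¹ᵁ W) hle F p (r • x) =
      (g.appLE V W h).hom r • HX.pullOn g' (f ⁻¹ᵁ V) (f' ⁻¹ᵁ W) hle F p x := by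
  let i1 := K56.Bridge.modV f F V p
  let i2 := K56.Bridge.modV f' ((Scheme.Modules.pullback g').obj F) W p
  apply (K56.Bridge.toHOb_bijective f' ((Scheme.Modules.pullback g').obj F) W p).1
  rw [LinearMap.map_smul]
  refine (K56.Bridge.pullB_toHOb f F g f' g' w h hle p (r • x)).symm.trans ?_
  refine Eq.trans ?_ (congrArg (fun t => (g.appLE V W h).hom r • t)
    (K56.Bridge.pullB_toHOb f F g f' g' w h hle p x))
  exact K56.HOb.pull_smul f f' g g' w _ h p r _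

end Smul

variable {X Y S X' Y' S' : Scheme.{u}} (b : Y ⟶ S) (f : X ⟶ Y) {g : S' ⟶ S} {gY : Y' ⟶ Y}
  {b' : Y' ⟶ S'} {gX : X' ⟶ X} {f' : X' ⟶ Y'}

/-- Base change for the pullback of classes over affine pairs. -/
theorem isBC_pullOn [QuasiCompact f] [IsSeparated f] [HasInjectiveResolutions X.Modules]
    (hY : IsPullback gY b' b g) (hX : IsPullback gX f' f gY)
    (F : X.Modules) (hF : Coh.IsQCoh F) (hfl : FlatMod.IsFlatOver (f ≫ b) F)
    (hR : ∀ n : ℕ, FlatMod.IsFlatOver b ((Coh.Rpush f n).obj F)) {V : Y.Opens} (hV : IsAffineOpen V)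
    {T : S.Opens} (hT : IsAffineOpen T) (h : V ≤ b ⁻¹ᵁ T) {T' : S'.Opens} (hT' : IsAffineOpen T')
    (e : T' ≤ g ⁻¹ᵁ T) {W : Y'.Opens} (hW : W = gY ⁻¹ᵁ V ⊓ b' ⁻¹ᵁ T')
    (e' : W ≤ gY ⁻¹ᵁ V) (hle : f' ⁻¹ᵁ W ≤ gX ⁻¹ᵁ (f ⁻¹ᵁ V)) (p : ℕ) :
    letI := K56.Bridge.modV f F V p
    letI := K56.Bridge.modV f' ((Scheme.Modules.pullback gX).obj F) W p
    IsBC (gY.appLE V W e').hom (HX.pullOn gX (f ⁻¹ᵁ V) (f' ⁻¹ᵁ W) hle F p) := by
  have hP : IsPullback gX (f' ≫ b') (f ≫ b) g := hX.paste_vert hY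
  have e'' : W ≤ b' ⁻¹ᵁ T' := hW.le.trans inf_le_right
  have hU' : f' ⁻¹ᵁ W = gX ⁻¹ᵁ (f ⁻¹ᵁ V) ⊓ (f' ≫ b') ⁻¹ᵁ T' := by
    rw [hW, Scheme.Hom.preimage_inf, ← Scheme.Hom.comp_preimage, ← Scheme.Hom.comp_preimage,
      ← Scheme.Hom.comp_preimage, hX.w]
  have key := isBC_pullOn_base b f F hF hfl hR hP hV hT h hT' e (f' ⁻¹ᵁ W) hU' hle
    (le_preimage_comp b' f' e'') p
  have h1 : Coh.toGlobal (strU (f ≫ b) hT (f ⁻¹ᵁ V) (le_preimage_comp b f h)) =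
      (secRing f V).comp (b.appLE T V h).hom := RingHom.ext (toGlobal_strU_comp b f hT h)
  have h2 : Coh.toGlobal (strU (f' ≫ b') hT' (f' ⁻¹ᵁ W) (le_preimage_comp b' f' e'')) =
      (secRing f' W).comp (b'.appLE T' W e'').hom :=
    RingHom.ext (toGlobal_strU_comp b' f' hT' e'')
  rw [h1, h2] at key
  let i1 := K56.Bridge.modV f F V p
  let i2 := K56.Bridge.modV f' ((Scheme.Modules.pullback gX).obj F) W p
  have key' : IsBCr (g.appLE T T' e).hom (b.appLE T V h).hom (b'.appLE T' W e'').hom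
    (HX.pullOn gX (f ⁻¹ᵁ V) (f' ⁻¹ᵁ W) hle F p) := key
  have hpo : IsPushout (b.appLE T V h) (g.appLE T T' e) (gY.appLE V W e') (b'.appLE T' W e'') :=
    (isIso_pushoutSection_iff hY e h hW).1 (isIso_pushoutSection_of_isAffineOpen hY e h hW hT hT' hV)
  refine isBC_of_isBCr (g.appLE T T' e).hom (b.appLE T V h).hom (gY.appLE V W e').hom
    (b'.appLE T' W e'').hom ?_ (closure_eq_top_of_isPushout hpo) _ ?_ key'
  · exact congrArg CommRingCat.Hom.hom hpo.w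
  · exact fun r x => pullOn_smul hX.w F e' hle p r x

/-- The base change maps are isomorphisms. -/
theorem isIso_bc [QuasiCompact f] [IsSeparated f] [HasInjectiveResolutions X.Modules]
    [HasInjectiveResolutions X'.Modules]
    (hY : IsPullback gY b' b g) (hX : IsPullback gX f' f gY)
    (F : X.Modules) (hF : Coh.IsQCoh F) (hfl : FlatMod.IsFlatOver (f ≫ b) F)
    (hR : ∀ n : ℕ, FlatMod.IsFlatOver b ((Coh.Rpush f n).obj F))
    {Δ : RDer.DerivedLES (Scheme.Modules.pushforward f)}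
    {Δ' : RDer.DerivedLES (Scheme.Modules.pushforward f')}
    {E : CohCmp.SectCmp f Δ} {E' : CohCmp.SectCmp f' Δ'} (B : CohCmp.GenBC f gY f' gX hX.w E E')
    (n : ℕ) : IsIso (B.bc n F) := by
  have h1 : IsSeparated f' := MorphismProperty.of_isPullback hX inferInstance
  have h2 : QuasiCompact f' := MorphismProperty.of_isPullback hX inferInstance
  refine K56.Bridge.isIso_bc F B hF n fun y => ?_
  -- choose the opens
  obtain ⟨_, ⟨T, hT, rfl⟩, hyT, -⟩ := S.isBasis_affineOpens.exists_subset_of_mem_open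
    (Set.mem_univ (b (gY y))) isOpen_univ
  obtain ⟨_, ⟨V, hV, rfl⟩, hyV, hVT⟩ := Y.isBasis_affineOpens.exists_subset_of_mem_open
    (show gY y ∈ (b ⁻¹ᵁ T : Set Y) from hyT) (b ⁻¹ᵁ T).isOpen
  have hy' : b' y ∈ (g ⁻¹ᵁ T : Set S') := by
    change g (b' y) ∈ T
    rw [← Scheme.Hom.comp_apply, ← hY.w, Scheme.Hom.comp_apply]
    exact hyT
  obtain ⟨_, ⟨T', hT', rfl⟩, hyT', hTT'⟩ := S'.isBasis_affineOpens.exists_subset_of_mem_open
    hy' (g ⁻¹ᵁ T).isOpen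
  have hWaff : IsAffineOpen (gY ⁻¹ᵁ V ⊓ b' ⁻¹ᵁ T') := by
    have : IsAffine _ := hV
    have : IsAffine _ := hT
    have : IsAffine _ := hT'
    exact .of_isIso (Scheme.Hom.isPullback_resLE hY hTT' hVT rfl).isoPullback.hom
  have hle : f' ⁻¹ᵁ (gY ⁻¹ᵁ V ⊓ b' ⁻¹ᵁ T') ≤ gX ⁻¹ᵁ (f ⁻¹ᵁ V) :=
    (f'.preimage_mono inf_le_left).trans (CohCmp.sqLE f gY f' gX hX.w V)
  exact ⟨V, _, hV, hWaff, inf_le_left, hle, ⟨hyV, hyT'⟩,
    isBC_pullOn b f hY hX F hF hfl hR hV hT hVT hT' hTT' rfl inf_le_left hle n⟩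

end K100.FlatBC
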