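import Groth.Agent.Coherent.K100.FlatDat
import Groth.Agent.Coherent.K55.PackMap
import Groth.Agent.CohqA.BaseChangeMod
import Groth.Agent.Ega3B.MasterAsm
import Groth.Agent.Ega3B.CechNatural
import Groth.Agent.S0016

/-!
# Flat families with flat cohomology over an affine base: base change with the pullback map

For `X` quasi-compact separated over `Spec A`, `F` quasi-coherent and flat over `A` with all
`H^p(X, F)` flat over `A`: for every cartesian square over `Spec B → Spec A` the pullback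
`CohPull.pullMod : H^p(X, F) → H^p(X_B, F_B)` exhibits the target as `B ⊗_A H^p(X, F)`.
-/

set_option autoImplicit false

universe u v

open CategoryTheory CategoryTheory.Limits AlgebraicGeometry Opposite TopologicalSpace TensorProduct

namespace K100.FlatPack

open Groth.Agent.Ega3B Groth.Agent.Ega3B.FibreIso Groth.Agent K55.PackMap K100.FlatDat
open Groth.Agent.Ega3B.EWatts Groth.Agent.Ega3B.CechFun Groth.Agent.Ega3B.AbsMaster
open Groth.Agent.CohqA.BaseChangeMod

section Complex

variable {A : Type u} [CommRing A]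

/-- Abstract master theorem without finiteness. -/
theorem exists_complex_abs {C : Type u} [Category.{v} C] [HasFiniteProducts C]
    {κ : Type u} [Finite κ] (U : κ → C)
    (G : ModuleCat.{u} A ⥤ (Cᵒᵖ ⥤ AddCommGrpCat.{u})) [G.Additive]
    (hcolim : ∀ (n : ℕ) (i : Fin (n + 1) → κ), PreservesColimits
      (G ⋙ (evaluation _ _).obj (op (∏ᶜ (U ∘ i) : C))))
    (hmono : ∀ (n : ℕ) (i : Fin (n + 1) → κ),
      (G ⋙ (evaluation _ _).obj (op (∏ᶜ (U ∘ i) : C))).PreservesMonomorphisms)
    (T : ℕ → ModuleCat.{u} A ⥤ AddCommGrpCat.{u}) [∀ p, (T p).Additive]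
    (e : ∀ p, T p ≅ cechFun U G ⋙ HomologicalComplex.homologyFunctor _ _ p) :
    ∃ P : ChainComplex (ModuleCat.{u} A) ℤ, (∀ i, Module.Flat A (P.X i)) ∧
      ∀ p : ℕ, Nonempty (T p ≅ CohIII.TFun P (-(p : ℤ)) ⋙
        forget₂ (ModuleCat.{u} A) AddCommGrpCat.{u}) := by
  let Ψ : ModuleCat.{u} A ⥤ ChainComplex AddCommGrpCat.{u} ℤ := ext (cechFun U G)
  have hcol : ∀ j, PreservesColimits (Ψ ⋙ HomologicalComplex.eval _ _ j) :=
    preservesColimits_ext_eval (cechFun U G) (preservesColimits_cechFun_eval U G hcolim)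
  refine ⟨liftCx Ψ (ModuleCat.of A A), fun i =>
    flat_liftCx Ψ i (preservesMono_ext_eval (cechFun U G) (preservesMono_cechFun_eval U G hmono) i),
    fun p => ⟨e p ≪≫ (extHomology (cechFun U G) p).symm ≪≫ homologyIso Ψ (-(p : ℤ))⟩⟩

theorem exists_complex {X : Scheme.{u}} [X.Over (Spec (CommRingCat.of A))] [CompactSpace X]
    [IsSeparated (X ↘ Spec (CommRingCat.of A))] (F : X.Modules) (hF : Coh.IsQCoh F)
    (hfl : FlatMod.IsFlatOver (X ↘ Spec (CommRingCat.of A)) F) :
    ∃ P : ChainComplex (ModuleCat.{u} A) ℤ, (∀ i, Module.Flat A (P.X i)) ∧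
      ∀ p : ℕ, Nonempty (CohIII.tensorAFunctor A F ⋙ CohIII.HAb X p ≅
        CohIII.TFun P (-(p : ℤ)) ⋙ forget₂ (ModuleCat.{u} A) AddCommGrpCat.{u}) := by
  obtain ⟨ι, _, U, hU, hcov⟩ := MasterAsm.exists_finite_cover X
  have hU' := MasterAsm.isAffineOpen_biInf A X U hU
  have hpi : ∀ (n : ℕ) (i : Fin (n + 1) → ι), IsAffineOpen (∏ᶜ (U ∘ i) : X.Opens) := by
    classical
    intro n i
    rw [MasterAsm.pi_eq_iInf]
    have h := hU' (Finset.univ.image i) (Finset.univ_nonempty.image i)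
    have e : (⨅ j ∈ Finset.univ.image i, U j) = ⨅ a, U (i a) := by
      rw [Finset.iInf_finset_image]
      simp
    rwa [e] at h
  have hC : MasterAsm.CechHyp A F := by
    intro ι _ U hcov hU p
    exact CechNatural.cechComparison U hcov hU p (CohIII.tensorAFunctor A F)
      (MasterAsm.isQCoh_tensorAFunctor F hF)
  exact exists_complex_abs U (CohIII.tensorAFunctor A F ⋙ MasterAsm.toPre X)
    (fun n i => TensorASec.preservesColimits_secFun F hF (hpi n i))
    (fun n i => TensorASec.preservesMono_secFun F hF (hpi n i) hfl)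
    (MasterAsm.TF A F) (fun p => (hC ι inferInstance U hcov hU' p).some)

end Complex

section Pack

variable {A : Type u} [CommRing A] {X : Scheme.{u}} [X.Over (Spec (CommRingCat.of A))]

/-- What it means for `K` to compute the cohomology of `F` in all base changes. -/
structure Computes (K : FlatData A) (F : X.Modules) (p : ℕ) (θ₀ : Coh.HH X F p ≃+ K.H p) : Prop where
  smul : ∀ (a : A) (x : Coh.HH X F p),
    θ₀ (Coh.toGlobal (X ↘ Spec (CommRingCat.of A)) a • x) = a • θ₀ x
  bc : ∀ (B : Type u) [CommRing B] [Algebra A B] (X' : Scheme.{u}) (j : X' ⟶ X)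
    (q : X' ⟶ Spec (CommRingCat.of B)) (_ : IsPullback j q (X ↘ Spec (CommRingCat.of A))
      (Spec.map (CommRingCat.ofHom (algebraMap A B)))),
    ∃ θ : Coh.HH X' ((Scheme.Modules.pullback j).obj F) p ≃+ K.HB p B,
      (∀ (b : B) (x : Coh.HH X' ((Scheme.Modules.pullback j).obj F) p),
        θ (Coh.toGlobal q b • x) = b • θ x) ∧
      ∀ x : Coh.HH X F p, θ (CohPull.pullMod j F p x) = K.res p B (θ₀ x)

/-- **The package** for flat families which are quasi-compact and separated. -/
theorem exists_pack (X : Scheme.{u}) [X.Over (Spec (CommRingCat.of A))] [CompactSpace X]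
    [IsSeparated (X ↘ Spec (CommRingCat.of A))] (F : X.Modules) (hq : Coh.IsQCoh F)
    (hfl : FlatMod.IsFlatOver (X ↘ Spec (CommRingCat.of A)) F) :
    ∃ K : FlatData A, ∀ p : ℕ, ∃ θ₀ : Coh.HH X F p ≃+ K.H p, Computes K F p θ₀ := by
  obtain ⟨P, hP, hT⟩ := exists_complex F hq hfl
  have hqs : QuasiSeparatedSpace X :=
    quasiSeparatedSpace_of_quasiSeparated (X ↘ Spec (CommRingCat.of A))
  obtain ⟨N, hN⟩ := S0016.result X
  obtain ⟨K, hK⟩ := exists_flatData P hP N (fun p hp M => by
    apply isZero_of_isZero_forget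
    refine IsZero.of_iso ?_ ((hT p).some.app M).symm
    have := hN _ (MasterAsm.isQCoh_tensorAFunctor F hq M) p hp
    exact @AddCommGrpCat.isZero_of_subsingleton ((MasterAsm.TF A F p).obj M) this)
  refine ⟨K, fun p => ?_⟩
  obtain ⟨E⟩ := hT p
  obtain ⟨κ₀, hκ₀, hκ⟩ := hK p
  have hnat : ∀ {M N : ModuleCat.{u} A} (g : M ⟶ N)
      (y : (CohIII.tensorAFunctor A F ⋙ CohIII.HAb X p).obj M),
      (E.hom.app N).hom (((CohIII.tensorAFunctor A F ⋙ CohIII.HAb X p).map g).hom y) =
        ((CohIII.TFun P (-(p : ℤ))).map g).hom ((E.hom.app M).hom y) := fun g y =>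
    congr($(E.hom.naturality g) y)
  let e : ∀ M : ModuleCat.{u} A, (CohIII.tensorAFunctor A F ⋙ CohIII.HAb X p).obj M ≃+
      (CohIII.TFun P (-(p : ℤ))).obj M := fun M => (E.app M).addCommGroupIsoToAddEquiv
  have he : ∀ (M : ModuleCat.{u} A) (y : (CohIII.tensorAFunctor A F ⋙ CohIII.HAb X p).obj M),
      e M y = (E.hom.app M).hom y := fun M y => rfl
  refine ⟨(theta0 A F hq p).trans ((e _).trans κ₀), ⟨fun a x => ?_, fun B _ _ X' j q H => ?_⟩⟩
  · change κ₀ (e _ (theta0 A F hq p (Coh.toGlobal (X ↘ Spec (CommRingCat.of A)) a • x))) =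
      a • κ₀ (e _ (theta0 A F hq p x))
    rw [theta0_smul, he, hnat, ← hκ₀]
    rfl
  · obtain ⟨κ, hκ1, hκ2⟩ := hκ B
    refine ⟨(thetaB j q H F hq p).trans ((e _).trans κ), fun b x => ?_, fun x => ?_⟩
    · change κ (e _ (thetaB j q H F hq p (Coh.toGlobal q b • x))) =
        b • κ (e _ (thetaB j q H F hq p x))
      rw [thetaB_smul, he, hnat, ← hκ1]
      rfl
    · change κ (e _ (thetaB j q H F hq p (CohPull.pullMod j F p x))) =
        K.res p B (κ₀ (e _ (theta0 A F hq p x)))
      rw [thetaB_pullMod, he, hnat, ← hκ2]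
      rfl

end Pack

end K100.FlatPack
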