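import Groth.Agent.Coherent.K100.FlatPack
import Groth.Agent.Coherent.K100.BCExch
import Groth.Agent.Coherent.K55.HX
import Groth.Agent.Coherent.K55.PackV0
import Groth.Agent.Ega3B.RpushAff
import Groth.Agent.Ega3B.FlatRestrict
import Groth.Agent.CohqA.RelCoh

/-!
# Flat families with flat direct images: base change on affine pairs

`isBC_pullOn`: `f : X ⟶ Y` separated quasi-compact over `b : Y ⟶ S`, `F` quasi-coherent flat over `S`
with all `R^n f_* F` flat over `S`, `V ⊆ Y` affine over `T ⊆ S` affine, `T' ⊆ S'` affine over `T`,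
`W = V ×_T T'`: then `H^p(f⁻¹V, F) → H^p(f'⁻¹W, F')` is the base change along `Γ(Y, V) → Γ(Y', W)`.
-/

set_option autoImplicit false

universe u

open CategoryTheory CategoryTheory.Limits AlgebraicGeometry Opposite TopologicalSpace TensorProduct

namespace K100.FlatV

open Groth.Agent.Ega3B Groth.Agent K55 K55.PackV K100.FlatDat K100.BCExch
open Groth.Agent.CohqA.BaseChangeMod

section Pack

variable {A : Type u} [CommRing A]

/-- `IsBC` over the affine base, in terms of `HX`. -/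
theorem isBC_pull (X : Scheme.{u}) [X.Over (Spec (CommRingCat.of A))] [CompactSpace X]
    [IsSeparated (X ↘ Spec (CommRingCat.of A))] (F : X.Modules) (hq : Coh.IsQCoh F)
    (hfl : FlatMod.IsFlatOver (X ↘ Spec (CommRingCat.of A)) F)
    (hH : ∀ p, letI : Module A (HX X F p) :=
      Module.compHom _ (Coh.toGlobal (X ↘ Spec (CommRingCat.of A))); Module.Flat A (HX X F p))
    (B : Type u) [CommRing B] [Algebra A B] {X' : Scheme.{u}} (j : X' ⟶ X)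
    (q : X' ⟶ Spec (CommRingCat.of B)) (H : IsPullback j q (X ↘ Spec (CommRingCat.of A))
      (Spec.map (CommRingCat.ofHom (algebraMap A B)))) (p : ℕ) :
    letI : Module A (HX X F p) := Module.compHom _ (Coh.toGlobal (X ↘ Spec (CommRingCat.of A)))
    letI : Module B (HX X' ((Scheme.Modules.pullback j).obj F) p) :=
      Module.compHom _ (Coh.toGlobal q)
    IsBC (algebraMap A B) (HX.pull j F p) := by
  obtain ⟨K, hK⟩ := FlatPack.exists_pack X F hq hfl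
  have hKH : ∀ p, Module.Flat A (K.H p) := fun p => by
    obtain ⟨θ₀, h1, -⟩ := hK p
    let i1 : Module A (HX X F p) := Module.compHom _ (Coh.toGlobal (X ↘ Spec (CommRingCat.of A)))
    let e : HX X F p ≃ₗ[A] K.H p := ((HX.toHH F p).trans θ₀).toLinearEquiv h1
    have := hH p
    exact Module.Flat.of_linearEquiv e.symm
  obtain ⟨θ₀, h1, h2⟩ := hK p
  obtain ⟨θ, h3, h4⟩ := h2 B X' j q H
  let i1 : Module A (HX X F p) := Module.compHom _ (Coh.toGlobal (X ↘ Spec (CommRingCat.of A)))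
  let i2 : Module B (HX X' ((Scheme.Modules.pullback j).obj F) p) :=
    Module.compHom _ (Coh.toGlobal q)
  exact isBC_of_flatData K hKH p B ((HX.toHH F p).trans θ₀) h1
    ((HX.toHH _ p).trans θ) h3 (HX.pull j F p) h4

end Pack

section Str

variable {X S : Scheme.{u}} (a : X ⟶ S) {T : S.Opens} (hT : IsAffineOpen T) (U : X.Opens)
  (h : U ≤ a ⁻¹ᵁ T)

/-- The structure map of an open `U` over an affine open `T` of the base. -/
noncomputable def strU : U.toScheme ⟶ Spec (CommRingCat.of Γ(S, T)) := a.resLE T U h ≫ hT.isoSpec.hom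

theorem strU_fromSpec : strU a hT U h ≫ hT.fromSpec = U.ι ≫ a := by
  rw [strU, Category.assoc, IsAffineOpen.isoSpec_hom_fromSpec, Scheme.Hom.resLE_comp_ι]

theorem toGlobal_strU (s : Γ(S, T)) :
    Coh.toGlobal (strU a hT U h) s = U.topIso.inv.hom ((a.appLE T U h).hom s) := by
  have h1 : (Scheme.ΓSpecIso Γ(S, T)).inv ≫ (a.resLE T U h ≫ hT.isoSpec.hom).appTop =
      a.appLE T U h ≫ U.topIso.inv := by
    rw [Scheme.Hom.comp_appTop, hT.isoSpec_hom_appTop, Category.assoc, Iso.inv_hom_id_assoc]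
    have h2 := (arrowResLEAppIso a T U h).hom.w
    rw [Iso.eq_comp_inv, Category.assoc, Iso.inv_comp_eq]
    exact h2.symm
  exact congr($(h1).hom s)

variable {S' X' : Scheme.{u}} {g' : X' ⟶ X} {a' : X' ⟶ S'} {g : S' ⟶ S}

theorem isPullback_strU (hP : IsPullback g' a' a g) {T' : S'.Opens} (hT' : IsAffineOpen T')
    (e : T' ≤ g ⁻¹ᵁ T) (U' : X'.Opens) (hU' : U' = g' ⁻¹ᵁ U ⊓ a' ⁻¹ᵁ T')
    (h1 : U' ≤ g' ⁻¹ᵁ U) (h2 : U' ≤ a' ⁻¹ᵁ T') :
    IsPullback (g'.resLE U U' h1) (strU a' hT' U' h2) (strU a hT U h) (Spec.map (g.appLE T T' e)) := by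
  have h3 := Scheme.Hom.isPullback_resLE (US := T) (UT := T') (UX := U) (UY := U') hP e h hU'
  refine IsPullback.of_iso h3 (Iso.refl _) (Iso.refl _) hT'.isoSpec hT.isoSpec ?_ ?_ ?_ ?_
  · simp
  · rw [Iso.refl_hom, Category.id_comp]
    rfl
  · rw [Iso.refl_hom, Category.id_comp]
    rfl
  · rw [← cancel_mono hT.fromSpec, Category.assoc, Category.assoc, IsAffineOpen.isoSpec_hom_fromSpec,
      Scheme.Hom.resLE_comp_ι, IsAffineOpen.SpecMap_appLE_fromSpec g hT hT' e, ← Category.assoc,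
      IsAffineOpen.isoSpec_hom_fromSpec]

end Str

section Main

variable {X Y S X' Y' S' : Scheme.{u}} (b : Y ⟶ S) (f : X ⟶ Y) {g : S' ⟶ S} {gY : Y' ⟶ Y}
  {b' : Y' ⟶ S'} {gX : X' ⟶ X} {f' : X' ⟶ Y'}

theorem le_preimage_comp {V : Y.Opens} {T : S.Opens} (h : V ≤ b ⁻¹ᵁ T) :
    f ⁻¹ᵁ V ≤ (f ≫ b) ⁻¹ᵁ T := by
  rw [Scheme.Hom.comp_preimage]
  exact f.preimage_mono h

theorem toGlobal_strU_comp {V : Y.Opens} {T : S.Opens} (hT : IsAffineOpen T) (h : V ≤ b ⁻¹ᵁ T)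
    (s : Γ(S, T)) : Coh.toGlobal (strU (f ≫ b) hT (f ⁻¹ᵁ V) (le_preimage_comp b f h)) s =
      secRing f V ((b.appLE T V h).hom s) := by
  rw [toGlobal_strU]
  have h1 : (f ≫ b).appLE T (f ⁻¹ᵁ V) (le_preimage_comp b f h) = b.appLE T V h ≫ f.app V := by
    rw [Scheme.Hom.app_eq_appLE, Scheme.Hom.appLE_comp_appLE]
  rw [h1]
  rfl

/-- `H^n(f⁻¹V, F)` is flat over `Γ(S, T)`. -/
theorem flat_HX [QuasiCompact f] [QuasiSeparated f] [HasInjectiveResolutions X.Modules]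
    (F : X.Modules) (hF : Coh.IsQCoh F)
    (n : ℕ) (hR : FlatMod.IsFlatOver b ((Coh.Rpush f n).obj F)) {V : Y.Opens} (hV : IsAffineOpen V)
    {T : S.Opens} (hT : IsAffineOpen T) (h : V ≤ b ⁻¹ᵁ T) :
    letI : Module Γ(S, T) (HX (f ⁻¹ᵁ V).toScheme (F.restrict (f ⁻¹ᵁ V).ι) n) :=
      Module.compHom _ (Coh.toGlobal (strU (f ≫ b) hT (f ⁻¹ᵁ V) (le_preimage_comp b f h)))
    Module.Flat Γ(S, T) (HX (f ⁻¹ᵁ V).toScheme (F.restrict (f ⁻¹ᵁ V).ι) n) := by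
  let i0 : Module Γ(S, T) (HX (f ⁻¹ᵁ V).toScheme (F.restrict (f ⁻¹ᵁ V).ι) n) :=
    Module.compHom _ (Coh.toGlobal (strU (f ≫ b) hT (f ⁻¹ᵁ V) (le_preimage_comp b f h)))
  have h1 : Flat2C.FlatSec.FlatSections b ((Coh.Rpush f n).obj F) h :=
    (Flat2C.FlatSec.flat_sections_iff b _ hV hT h
      (Groth.Agent.CohqA.RelCoh.isQCoh_Rpush f F hF n)).2 fun x _ => hR x
  obtain ⟨e, he⟩ := RpushAff.exists_equiv f F hF hV n
  let i1 : Module Γ(S, T) Γ((Coh.Rpush f n).obj F, V) := Flat2C.FlatSec.moduleOver b _ h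
  have h1' : Module.Flat Γ(S, T) Γ((Coh.Rpush f n).obj F, V) := h1
  let e' : Γ((Coh.Rpush f n).obj F, V) ≃+ HX (f ⁻¹ᵁ V).toScheme (F.restrict (f ⁻¹ᵁ V).ι) n :=
    e.trans (HX.toHH (F.restrict (f ⁻¹ᵁ V).ι) n).symm
  have he' : ∀ (s : Γ(S, T)) (x : Γ((Coh.Rpush f n).obj F, V)), e' (s • x) = s • e' x := by
    intro s x
    have h2 : e' (s • x) = secRing f V ((b.appLE T V h).hom s) • e' x := he _ x
    rw [h2, ← toGlobal_strU_comp b f hT h]
    rfl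
  exact Module.Flat.of_linearEquiv (e'.toLinearEquiv he').symm

/-- Base change over affine opens of the base, for the pullback of classes over opens. -/
theorem isBC_pullOn_base [QuasiCompact f] [IsSeparated f] [HasInjectiveResolutions X.Modules]
    (F : X.Modules) (hF : Coh.IsQCoh F) (hfl : FlatMod.IsFlatOver (f ≫ b) F)
    (hR : ∀ n : ℕ, FlatMod.IsFlatOver b ((Coh.Rpush f n).obj F))
    (hP : IsPullback gX (f' ≫ b') (f ≫ b) g) {V : Y.Opens} (hV : IsAffineOpen V)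
    {T : S.Opens} (hT : IsAffineOpen T) (h : V ≤ b ⁻¹ᵁ T) {T' : S'.Opens} (hT' : IsAffineOpen T')
    (e : T' ≤ g ⁻¹ᵁ T) (U' : X'.Opens) (hU' : U' = gX ⁻¹ᵁ (f ⁻¹ᵁ V) ⊓ (f' ≫ b') ⁻¹ᵁ T')
    (h1 : U' ≤ gX ⁻¹ᵁ (f ⁻¹ᵁ V)) (h2 : U' ≤ (f' ≫ b') ⁻¹ᵁ T') (p : ℕ) :
    IsBCr (g.appLE T T' e).hom (Coh.toGlobal (strU (f ≫ b) hT (f ⁻¹ᵁ V) (le_preimage_comp b f h)))
      (Coh.toGlobal (strU (f' ≫ b') hT' U' h2)) (HX.pullOn gX (f ⁻¹ᵁ V) U' h1 F p) := by
  let st := strU (f ≫ b) hT (f ⁻¹ᵁ V) (le_preimage_comp b f h)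
  let iO : (f ⁻¹ᵁ V).toScheme.Over (Spec (CommRingCat.of Γ(S, T))) := ⟨st⟩
  have hVaff : IsAffine V.toScheme := hV
  have hTaff : IsAffine T.toScheme := hT
  have hst : st = (f ∣_ V) ≫ b.resLE T V h ≫ hT.isoSpec.hom := by
    rw [← cancel_mono hT.fromSpec]
    rw [strU_fromSpec, Category.assoc, Category.assoc, IsAffineOpen.isoSpec_hom_fromSpec,
      Scheme.Hom.resLE_comp_ι, morphismRestrict_ι_assoc]
  have hsep : IsSeparated ((f ⁻¹ᵁ V).toScheme ↘ Spec (CommRingCat.of Γ(S, T))) := by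
    change IsSeparated st
    rw [hst]
    infer_instance
  have hcpt : CompactSpace (f ⁻¹ᵁ V).toScheme :=
    QuasiCompact.compactSpace_of_compactSpace (f ∣_ V)
  have hF' : Coh.IsQCoh (F.restrict (f ⁻¹ᵁ V).ι) :=
    Groth.Agent.CohqB.LocalQC.isQCoh_restrict (f ⁻¹ᵁ V).ι hF
  have hfl' : FlatMod.IsFlatOver ((f ⁻¹ᵁ V).toScheme ↘ Spec (CommRingCat.of Γ(S, T)))
      (F.restrict (f ⁻¹ᵁ V).ι) :=
    FlatRestrict.isFlatOver_restrict (f ≫ b) _ (f ⁻¹ᵁ V).ι hT.fromSpec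
      (strU_fromSpec (f ≫ b) hT (f ⁻¹ᵁ V) (le_preimage_comp b f h)).symm F hfl
  have hsq := isPullback_strU (f ≫ b) hT (f ⁻¹ᵁ V) (le_preimage_comp b f h) hP hT' e U' hU' h1 h2
  let iA : Algebra Γ(S, T) Γ(S', T') := (g.appLE T T' e).hom.toAlgebra
  have key := isBC_pull (f ⁻¹ᵁ V).toScheme (F.restrict (f ⁻¹ᵁ V).ι) hF' hfl'
    (fun q => flat_HX b f F hF q (hR q) hV hT h) Γ(S', T') (gX.resLE (f ⁻¹ᵁ V) U' h1)
    (strU (f' ≫ b') hT' U' h2) hsq p
  let i1 : Module Γ(S, T) (HX (f ⁻¹ᵁ V).toScheme (F.restrict (f ⁻¹ᵁ V).ι) p) :=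
      Module.compHom _ (Coh.toGlobal (strU (f ≫ b) hT (f ⁻¹ᵁ V) (le_preimage_comp b f h)))
  let i2 : Module Γ(S', T') (HX U'.toScheme
        (((Scheme.Modules.pullback gX).obj F).restrict U'.ι) p) :=
      Module.compHom _ (Coh.toGlobal (strU (f' ≫ b') hT' U' h2))
  let i3 : Module Γ(S', T') (HX U'.toScheme ((Scheme.Modules.pullback
      (gX.resLE (f ⁻¹ᵁ V) U' h1)).obj (F.restrict (f ⁻¹ᵁ V).ι)) p) :=
      Module.compHom _ (Coh.toGlobal (strU (f' ≫ b') hT' U' h2))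
  have key' : IsBC (g.appLE T T' e).hom (HX.pull (gX.resLE (f ⁻¹ᵁ V) U' h1)
    (F.restrict (f ⁻¹ᵁ V).ι) p) := key
  exact IsBC.of_equiv key'
    ((HX.iso (CohPull.pullOnIso gX (f ⁻¹ᵁ V) U' h1 F) p).toLinearEquiv
      (fun b x => HX.iso_smul _ p _ x)) (f' := HX.pullOn gX (f ⁻¹ᵁ V) U' h1 F p) (fun x => rfl)

end Main

end K100.FlatV
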